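import Mathlib

/-!
# Symplectic actions of order 21 in dimension twelve over two elements

An endomorphism `σ` of order 7 preserving a nondegenerate pairing and commuting with `τ` of order 3
cannot fix all the fixed points of `τ` if these are not just zero.
-/

set_option autoImplicit false
set_option linter.unusedSectionVars false

namespace Cfsg.Agent.J4Bridge

open Function

variable {V : Type*} [AddCommGroup V] [Finite V]

/-- The fixed points. -/
def fixSub (σ : V →+ V) : AddSubgroup V where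
  carrier := {v | σ v = v}
  zero_mem' := map_zero σ
  add_mem' {a b} (ha : σ a = a) (hb : σ b = b) := show σ (a + b) = a + b by rw [map_add, ha, hb]
  neg_mem' {a} (ha : σ a = a) := show σ (-a) = -a by rw [map_neg, ha]

theorem mem_fixSub {σ : V →+ V} {v : V} : v ∈ fixSub σ ↔ σ v = v := Iff.rfl

/-- The fixed-point congruence. -/
theorem congr_fix (σ : V →+ V) {p : ℕ} (hp : p.Prime) (W : AddSubgroup V)
    (hW : ∀ v ∈ W, σ v ∈ W) (hσ : ∀ v ∈ W, (⇑σ)^[p] v = v) :
    Nat.card ↥W ≡ Nat.card ↥(W ⊓ fixSub σ) [MOD p] := by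
  classical
  haveI := Fact.mk hp
  haveI := Fintype.ofFinite ↥W
  set f : Function.End ↥W := fun w => ⟨σ w, hW w w.2⟩ with hf
  have hiter : ∀ (k : ℕ) (w : ↥W), (((f ^ k : Function.End ↥W) w : ↥W) : V) = (⇑σ)^[k] (w : V) := by
    intro k
    induction k with
    | zero => intro w; rfl
    | succ k ih =>
      intro w
      rw [pow_succ', iterate_succ_apply']
      show σ (((f ^ k : Function.End ↥W) w : ↥W) : V) = _
      rw [ih]
  have h1 : f ^ p ^ 1 = 1 := by
    funext w
    apply Subtype.ext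
    rw [hiter, pow_one, hσ w w.2]
    rfl
  have h := Equiv.Perm.card_fixedPoints_modEq h1
  rw [Nat.card_eq_fintype_card]
  convert h using 1
  rw [← Nat.card_eq_fintype_card]
  refine Nat.card_congr ⟨fun w => ⟨⟨w.1, w.2.1⟩, Subtype.ext w.2.2⟩, fun w => ⟨w.1.1, w.1.2,
    congrArg Subtype.val w.2⟩, fun w => rfl, fun w => rfl⟩

theorem card_two_pow {n : ℕ} (hV : Nat.card V = 2 ^ n) (W : AddSubgroup V) :
    ∃ i ≤ n, Nat.card ↥W = 2 ^ i :=
  (Nat.dvd_prime_pow Nat.prime_two).1 (hV ▸ W.card_addSubgroup_dvd_card)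

variable (hchar : ∀ v : V, v + v = 0)

include hchar

theorem add_eq_zero_iff' {a b : V} : a + b = 0 ↔ a = b :=
  ⟨fun h => by rw [← add_zero a, ← hchar b, ← add_assoc, h, zero_add], fun h => h ▸ hchar b⟩

/-- Small subgroups are fixed by an element of order eleven. -/
theorem fix_eleven {n : ℕ} (hV : Nat.card V = 2 ^ n) (σ : V →+ V) (W : AddSubgroup V)
    (hW : ∀ v ∈ W, σ v ∈ W) (hσ : ∀ v ∈ W, (⇑σ)^[11] v = v) (hsmall : Nat.card ↥W ≤ 512) :
    W ≤ fixSub σ := by
  obtain ⟨i, -, hi⟩ := card_two_pow hV W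
  obtain ⟨j, -, hj⟩ := card_two_pow hV (W ⊓ fixSub σ)
  have h := congr_fix σ (by norm_num) W hW hσ
  have hle := AddSubgroup.card_le_of_le (inf_le_left : W ⊓ fixSub σ ≤ W)
  rw [hi, hj] at h hle
  rw [hi] at hsmall
  have hi9 : i ≤ 9 := (Nat.pow_le_pow_iff_right (by norm_num)).1 (show 2 ^ i ≤ 2 ^ 9 by simpa using hsmall)
  have hji : j ≤ i := (Nat.pow_le_pow_iff_right (by norm_num)).1 hle
  have hij : i = j := by
    unfold Nat.ModEq at h
    interval_cases i <;> interval_cases j <;> simp_all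
  have he : W ⊓ fixSub σ = W :=
    AddSubgroup.eq_of_le_of_card_ge inf_le_left (by rw [hi, hj, hij])
  exact he ▸ inf_le_right

/-- The configuration of orders seven and three. -/
theorem false_of_seven (hV : Nat.card V = 2 ^ 12) (σ τ : V →+ V) (hσ : ∀ v, (⇑σ)^[7] v = v)
    (hτ : ∀ v, (⇑τ)^[3] v = v) (hcomm : ∀ v, σ (τ v) = τ (σ v))
    (B : V → V → ZMod 2) (hBl : ∀ u v w, B (u + v) w = B u w + B v w)
    (hBr : ∀ u v w, B u (v + w) = B u v + B u w) (hBn : ∀ u, (∀ w, B u w = 0) → u = 0)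
    (hBi : ∀ u v, B (σ u) (σ v) = B u v) (hfix : ∀ v, τ v = v → σ v = v)
    (hne : ∃ v, σ v ≠ v) (h0 : ∃ v, v ≠ 0 ∧ τ v = v) : False := by
  have hinj : Injective σ := by
    intro a b h
    rw [← hσ a, ← hσ b]
    show (⇑σ)^[6] (σ a) = (⇑σ)^[6] (σ b)
    rw [h]
  set fa : V →+ V := σ.comp (σ.comp σ) + σ + AddMonoidHom.id V with hfa
  set fb : V →+ V := σ.comp (σ.comp σ) + σ.comp σ + AddMonoidHom.id V with hfb
  have hfa' : ∀ v, fa v = σ (σ (σ v)) + σ v + v := fun v => rfl
  have hfb' : ∀ v, fb v = σ (σ (σ v)) + σ (σ v) + v := fun v => rfl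
  have hB0 : ∀ w, B 0 w = 0 := fun w => by
    have := hBl 0 0 w
    rw [add_zero] at this
    exact left_eq_add.1 this
  have hBi3 : ∀ u v, B (σ (σ (σ u))) (σ (σ (σ v))) = B u v := fun u v => by rw [hBi, hBi, hBi]
  -- the two kernels are paired
  have hperp_a : Surjective fa → ∀ u, fb u = 0 → u = 0 := by
    intro hs u hu
    refine hBn u fun w => ?_
    obtain ⟨w, rfl⟩ := hs w
    have h := hB0 (σ (σ (σ w)))
    rw [← hu, hfb', hBl, hBl, hBi3, hBi, hBi] at h
    rw [hfa', hBr, hBr, ← h]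
    ring
  have hperp_b : Surjective fb → ∀ u, fa u = 0 → u = 0 := by
    intro hs u hu
    refine hBn u fun w => ?_
    obtain ⟨w, rfl⟩ := hs w
    have h := hB0 (σ (σ (σ w)))
    rw [← hu, hfa', hBl, hBl, hBi3, hBi] at h
    rw [hfb', hBr, hBr, ← h]
    ring
  have hab : ∀ v, fa (fb v) = fb (fa v) := fun v => by
    simp only [hfa', hfb', map_add]
    abel
  have h7 : ∀ v, fa (fb v) = 0 → fa (fb (σ v)) = 0 := fun v hv => by
    have : fa (fb (σ v)) = σ (fa (fb v)) := by simp only [hfa', hfb', map_add]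
    rw [this, hv, map_zero]
  have hkill : ∀ v, fa (fb (σ v + v)) = 0 := fun v => by
    have h : (⇑σ)^[7] v = v := hσ v
    simp only [iterate_succ, iterate_zero, Function.comp_apply, id_eq] at h
    simp only [hfa', hfb', map_add, h]
    have e : ∀ x : V, x + x = 0 := hchar
    abel_nf
    simp [two_zsmul, e]
    rw [← smul_add, show (4 : ℤ) = 2 * 2 from rfl, mul_smul, two_zsmul, two_zsmul, e]
  have hboth : ¬ (∀ v, fa v = 0 → v = 0) ∧ ¬ (∀ v, fb v = 0 → v = 0) := by
    have key : (∀ v, fa v = 0 → v = 0) → (∀ v, fb v = 0 → v = 0) → False := by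
      intro ha hb
      obtain ⟨v, hv⟩ := hne
      exact hv ((add_eq_zero_iff' hchar).1 (hb _ (ha _ (hkill v))))
    refine ⟨fun ha => key ha (hperp_a ?_), fun hb => key (hperp_b ?_) hb⟩
    · exact Finite.injective_iff_surjective.1 ((injective_iff_map_eq_zero fa).2 ha)
    · exact Finite.injective_iff_surjective.1 ((injective_iff_map_eq_zero fb).2 hb)
  have hfixz : ∀ v, σ v = v → fa v = v ∧ fb v = v := fun v hv => by
    simp only [hfa', hfb', hv, hchar v, zero_add, and_self]
  -- each kernel has at least 64 elements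
  have hbig : ∀ f : V →+ V, (∀ v, f (σ v) = σ (f v)) → (∀ v, f (τ v) = τ (f v)) →
      (∀ v, σ v = v → f v = v) → (¬ ∀ v, f v = 0 → v = 0) → 2 ^ 6 ≤ Nat.card ↥f.ker := by
    intro f hfσ hfτ hff hnz
    have hker : ∀ v, v ∈ f.ker ↔ f v = 0 := fun v => AddMonoidHom.mem_ker
    have hz : ∀ g : V →+ V, (∀ v ∈ f.ker, g v = v → v = 0) → Nat.card ↥(f.ker ⊓ fixSub g) = 1 := by
      intro g hg
      rw [AddSubgroup.card_eq_one, eq_bot_iff]
      exact fun v hv => hg v hv.1 hv.2
    have h7' := congr_fix σ (by norm_num : Nat.Prime 7) f.ker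
      (fun v hv => (hker _).2 (by rw [hfσ, (hker v).1 hv, map_zero])) (fun v _ => hσ v)
    have h3' := congr_fix τ (by norm_num : Nat.Prime 3) f.ker
      (fun v hv => (hker _).2 (by rw [hfτ, (hker v).1 hv, map_zero])) (fun v _ => hτ v)
    rw [hz σ fun v hv e => ((hff v e).symm.trans ((hker v).1 hv))] at h7'
    rw [hz τ fun v hv e => ((hff v (hfix v e)).symm.trans ((hker v).1 hv))] at h3'
    obtain ⟨i, hi12, hi⟩ := card_two_pow hV f.ker
    rw [hi] at h7' h3' ⊢
    have hi0 : i ≠ 0 := by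
      rintro rfl
      refine hnz fun v hv => ?_
      have := AddSubgroup.card_eq_one.1 (hi.trans (pow_zero 2))
      exact (AddSubgroup.mem_bot).1 (this ▸ (hker v).2 hv)
    unfold Nat.ModEq at h7' h3'
    interval_cases i
    all_goals (revert h7' h3' hi0; decide)
  have hA := hbig fa (fun v => by simp only [hfa', map_add]) (fun v => by simp only [hfa', map_add, hcomm])
    (fun v hv => (hfixz v hv).1) hboth.1
  have hB := hbig fb (fun v => by simp only [hfb', map_add]) (fun v => by simp only [hfb', map_add, hcomm])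
    (fun v hv => (hfixz v hv).2) hboth.2
  -- the sum with the fixed points of `τ` is direct
  set ψ : ↥fa.ker × ↥fb.ker × ↥(fixSub τ) → V := fun x => (x.1 : V) + x.2.1 + x.2.2 with hψ
  have hψinj : Injective ψ := by
    rintro ⟨a, b, w⟩ ⟨a', b', w'⟩ h
    have e : ((a : V) - a') + ((b : V) - b') + ((w : V) - w') = 0 := by
      rw [← sub_eq_zero] at h
      rw [← h]
      show _ = ((a : V) + b + w) - ((a' : V) + b' + w')
      simp only [sub_eq_add_neg, neg_add_rev]
      abel
    set A := (a : V) - a'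
    set Bv := (b : V) - b'
    set W := (w : V) - w'
    have hAk : fa A = 0 := AddMonoidHom.mem_ker.1 (sub_mem a.2 a'.2)
    have hBk : fb Bv = 0 := AddMonoidHom.mem_ker.1 (sub_mem b.2 b'.2)
    have hWf : σ W = W := hfix W (sub_mem w.2 w'.2)
    have hW0 : W = 0 := by
      have h1 := congrArg (fun x => fa (fb x)) e
      simp only [map_add, map_zero, hBk] at h1
      rw [hab A, hAk, map_zero, zero_add, zero_add, (hfixz W hWf).2, (hfixz W hWf).1] at h1
      exact h1
    rw [hW0, add_zero, add_eq_zero_iff' hchar] at e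
    rw [← e] at hBk
    have hA0 : A = 0 := by
      have h1 : σ (σ (σ A)) + σ A + A = σ (σ (σ A)) + σ (σ A) + A := by
        rw [← hfa', ← hfb', hAk, hBk]
      have h2 : σ A = σ (σ A) := add_left_cancel (add_right_cancel h1)
      have h3 := hinj h2
      rw [hfa', ← h3, ← h3, ← h3, hchar, zero_add] at hAk
      exact hAk
    have hB0 : Bv = 0 := e ▸ hA0
    simp only [Prod.mk.injEq]
    exact ⟨Subtype.ext (sub_eq_zero.1 hA0), Subtype.ext (sub_eq_zero.1 hB0),
      Subtype.ext (sub_eq_zero.1 hW0)⟩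
  have hle := Nat.card_le_card_of_injective ψ hψinj
  rw [Nat.card_prod, Nat.card_prod, hV] at hle
  have hW2 : 2 ≤ Nat.card ↥(fixSub τ) := by
    obtain ⟨v, hv0, hv⟩ := h0
    rw [Nat.succ_le_iff, Finite.one_lt_card_iff_nontrivial, AddSubgroup.nontrivial_iff_exists_ne_zero]
    exact ⟨v, hv, hv0⟩
  have := Nat.mul_le_mul hA (Nat.mul_le_mul hB hW2)
  omega

end Cfsg.Agent.J4Bridge
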