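import Mathlib
import Cfsg.Prelude.Def_JankoFourType
import Cfsg.Agent.Lib.Cores.Basic
import Cfsg.Agent.Lib.LargeExtra.Basic
import Cfsg.Agent.Lib.J4Local.Three

/-!
# The fourth Janko involution centralizer: the quotient by `N` and the 2-core

`H` stands for the centralizer, `t` for its central involution, `Q ≤ N ≤ M` for the given normal
subgroups. The quotient `H / N` is the automorphism group of M22 and `Q` is the 2-core of `H`.
-/

set_option autoImplicit false
set_option linter.style.haveILetI false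
set_option linter.unusedSectionVars false

namespace Cfsg.Agent.J4Bridge

open Subgroup
open scoped commutatorElement

universe u

variable {H : Type u} [Group H] [Finite H]

/-- The hypotheses on the centralizer, apart from the isomorphism type of `M / N`. -/
structure Hyp (t : H) (Q N M : Subgroup H) : Prop where
  two : orderOf t = 2
  t_cent : t ∈ center H
  hQN : Q ≤ N
  hNM : N ≤ M
  hM : M.index = 2
  ext : Cfsg.IsExtraspecial 2 ↥Q
  card : Nat.card ↥Q = 2 ^ 13
  cardN : Nat.card ↥N = 3 * Nat.card ↥Q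
  hcent : ⁅M, N⁆ ≤ Q
  hperf : M ≤ ⁅M, M⁆ ⊔ Q
  h2c : centralizer (Q : Set H) ≤ Q
  hout : ∀ c : H, (∀ m ∈ M, c * m * c⁻¹ * m⁻¹ ∈ N) → c ∈ M

variable {t : H} {Q N M : Subgroup H} [Q.Normal] [N.Normal] [M.Normal]

theorem Hyp.t_mem (h : Hyp t Q N M) : t ∈ Q :=
  h.h2c (mem_centralizer_iff.2 fun q _ => mem_center_iff.1 h.t_cent q)

theorem Hyp.ctr (h : Hyp t Q N M) : LargeExtra.Ctr Q t := by
  have hctr : (center ↥Q).map Q.subtype = zpowers t := by
    refine (eq_of_le_of_card_ge (zpowers_le.2 (show t ∈ (center ↥Q).map Q.subtype from ⟨⟨t, h.t_mem⟩, ?_, rfl⟩)) ?_).symm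
    · exact mem_center_iff.2 fun q => Subtype.ext (mem_center_iff.1 h.t_cent q)
    · rw [card_map_of_injective Q.subtype_injective, Nat.card_zpowers, h.two, h.ext.2]
  refine ⟨h.ext, h.two, hctr, ?_, ?_⟩
  · refine le_antisymm (fun x hx => ?_) (zpowers_le.2 (show t ∈ centralizer (Q : Set H) from mem_centralizer_iff.2 fun q _ =>
      mem_center_iff.1 h.t_cent q))
    rw [← hctr]
    exact ⟨⟨x, h.h2c hx⟩, mem_center_iff.2 fun q => Subtype.ext (mem_centralizer_iff.1 hx q q.2), rfl⟩
  · exact fun x _ => (normalizer_eq_top (H := Q)).symm ▸ mem_top x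

theorem Hyp.card_M (h : Hyp t Q N M) (e : ↥M ⧸ N.subgroupOf M ≃* ↥Spor.M22) :
    Nat.card ↥M = 443520 * (3 * 2 ^ 13) := by
  rw [card_eq_card_quotient_mul_card_subgroup (N.subgroupOf M), Nat.card_congr e.toEquiv,
    Nat.card_congr (subgroupOfEquivOfLe h.hNM).toEquiv, h.cardN, h.card]
  rw [Cfsg.Agent.Golay.M22Involution.card_M22]

theorem Hyp.card_H (h : Hyp t Q N M) (e : ↥M ⧸ N.subgroupOf M ≃* ↥Spor.M22) :
    Nat.card H = 2 * (443520 * (3 * 2 ^ 13)) := by
  rw [← M.card_mul_index, h.hM, h.card_M e, mul_comm]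

/-- `H / N` is the automorphism group of M22. -/
theorem Hyp.exists_phi (h : Hyp t Q N M) (e : ↥M ⧸ N.subgroupOf M ≃* ↥Spor.M22) :
    ∃ φ : H →* MulAut ↥Spor.M22, Function.Surjective φ ∧ φ.ker = N := by
  set π := QuotientGroup.mk' N with hπ
  set Mb := M.map π with hMb
  haveI : Mb.Normal := Subgroup.Normal.map inferInstance π (QuotientGroup.mk'_surjective N)
  set f : ↥M →* ↥Mb := π.subgroupMap M with hf
  have hfs : Function.Surjective f := π.subgroupMap_surjective M
  have hfker : f.ker = N.subgroupOf M := by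
    ext x
    rw [MonoidHom.mem_ker, mem_subgroupOf, ← Subtype.coe_inj]
    show π (x : H) = 1 ↔ _
    rw [← MonoidHom.mem_ker, hπ, QuotientGroup.ker_mk']
  let e' : ↥Mb ≃* ↥Spor.M22 :=
    (QuotientGroup.quotientKerEquivOfSurjective f hfs).symm.trans
      ((QuotientGroup.quotientMulEquivOfEq hfker).trans e)
  set φ : H →* MulAut ↥Spor.M22 :=
    (MulAut.congr e').toMonoidHom.comp (MulAut.conjNormal.comp π) with hφ
  have hker : ∀ x : H, φ x = 1 ↔ ∀ m ∈ M, x * m * x⁻¹ * m⁻¹ ∈ N := by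
    intro x
    rw [hφ]
    simp only [MonoidHom.comp_apply, MulEquiv.coe_toMonoidHom, MulEquiv.map_eq_one_iff]
    constructor
    · intro hx m hm
      have h1 := DFunLike.congr_fun hx (f ⟨m, hm⟩)
      rw [MulAut.one_apply, ← Subtype.coe_inj, MulAut.conjNormal_apply] at h1
      have h2 : π (x * m * x⁻¹ * m⁻¹) = 1 := by
        rw [map_mul, map_mul, map_mul, map_inv, map_inv]
        change π x * π m * (π x)⁻¹ = π m at h1
        rw [h1, mul_inv_cancel]
      rwa [← MonoidHom.mem_ker, hπ, QuotientGroup.ker_mk'] at h2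
    · intro hx
      refine MulEquiv.ext fun y => ?_
      obtain ⟨m, rfl⟩ := hfs y
      rw [MulAut.one_apply, ← Subtype.coe_inj, MulAut.conjNormal_apply]
      show π x * π (m : H) * (π x)⁻¹ = π (m : H)
      have h2 : π (x * (m : H) * x⁻¹ * (m : H)⁻¹) = 1 := by
        rw [← MonoidHom.mem_ker, hπ, QuotientGroup.ker_mk']; exact hx _ m.2
      rw [map_mul, map_mul, map_mul, map_inv π x, map_inv π] at h2
      exact mul_inv_eq_one.1 h2
  have hkerN : φ.ker = N := by
    ext x
    rw [MonoidHom.mem_ker, hker]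
    constructor
    · intro hx
      have hxM := h.hout x hx
      have h1 : ∀ w : ↥Spor.M22, e (QuotientGroup.mk ⟨x, hxM⟩) * w = w * e (QuotientGroup.mk ⟨x, hxM⟩) := by
        intro w
        obtain ⟨y, rfl⟩ := e.surjective w
        obtain ⟨m, rfl⟩ := QuotientGroup.mk_surjective y
        rw [← map_mul, ← map_mul, ← QuotientGroup.mk_mul, ← QuotientGroup.mk_mul]
        congr 1
        rw [QuotientGroup.eq, mem_subgroupOf]
        have h2 := (inferInstance : N.Normal).conj_mem _ (inv_mem (hx (m : H) m.2)) ((m : H) * x)⁻¹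
        convert h2 using 1
        push_cast
        group
      have h3 : MulAut.conj (e (QuotientGroup.mk ⟨x, hxM⟩)) = 1 := by
        refine MulEquiv.ext fun w => ?_
        rw [MulAut.conj_apply, h1, mul_inv_cancel_right, MulAut.one_apply]
      have h4 : e (QuotientGroup.mk ⟨x, hxM⟩) = 1 :=
        J4Local.conj_m22_injective (h3.trans (map_one _).symm)
      rw [MulEquiv.map_eq_one_iff, QuotientGroup.eq_one_iff, mem_subgroupOf] at h4
      exact h4
    · intro hx m hm
      have := mul_mem hx ((inferInstance : N.Normal).conj_mem _ (inv_mem hx) m)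
      convert this using 1
      group
  refine ⟨φ, ?_, hkerN⟩
  rw [← MonoidHom.range_eq_top]
  refine eq_top_of_card_eq _ ?_
  rw [← index_ker, hkerN, J4Local.card_mulAut_m22]
  have h1 := N.card_mul_index
  rw [h.card_H e, h.cardN, h.card] at h1
  omega

/-- `Q` is the 2-core of `H`. -/
theorem Hyp.pCore_eq (h : Hyp t Q N M) (e : ↥M ⧸ N.subgroupOf M ≃* ↥Spor.M22) :
    Cfsg.pCore 2 H = Q := by
  haveI : Fact (Nat.Prime 2) := ⟨Nat.prime_two⟩
  haveI := Cfsg.Agent.Golay.M22TwoBlock.isSimple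
  set O := Cfsg.pCore 2 H with hO
  have hQO : Q ≤ O := Cores.le_pCore h.ext.1.1
  have hOp : IsPGroup 2 ↥O := Cores.pCore_isPGroup 2
  set g : ↥M →* ↥Spor.M22 := e.toMonoidHom.comp (QuotientGroup.mk' _) with hg
  have hgs : Function.Surjective g := e.surjective.comp (QuotientGroup.mk'_surjective _)
  have hgker : ∀ m : ↥M, g m = 1 ↔ (m : H) ∈ N := fun m => by
    rw [hg, MonoidHom.comp_apply, MulEquiv.coe_toMonoidHom, MulEquiv.map_eq_one_iff,
      QuotientGroup.mk'_apply, QuotientGroup.eq_one_iff, mem_subgroupOf]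
  haveI : ((O.subgroupOf M).map g).Normal := Subgroup.Normal.map inferInstance g hgs
  have hOM : ∀ o ∈ O, o ∈ M → o ∈ N := by
    rcases (inferInstance : ((O.subgroupOf M).map g).Normal).eq_bot_or_eq_top with hb | ht
    · intro o ho hoM
      exact (hgker ⟨o, hoM⟩).1 ((mem_bot).1 (hb ▸ mem_map_of_mem g (show (⟨o, hoM⟩ : ↥M) ∈ O.subgroupOf M from ho)))
    · exfalso
      obtain ⟨a, ha⟩ := exists_prime_orderOf_dvd_card' (G := ↥Spor.M22) 11
        (hp := ⟨by norm_num⟩) (by rw [Cfsg.Agent.Golay.M22Involution.card_M22]; norm_num)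
      obtain ⟨m, hm, hma⟩ := (ht ▸ mem_top a : a ∈ (O.subgroupOf M).map g)
      obtain ⟨k, hk⟩ := hOp ⟨(m : H), hm⟩
      have h1 : a ^ 2 ^ k = 1 := by
        rw [← hma, ← map_pow]
        have : m ^ 2 ^ k = 1 := Subtype.ext (by simpa using congrArg Subtype.val hk)
        rw [this, map_one]
      have h2 : (11 : ℕ) ∣ 2 ^ k := ha ▸ orderOf_dvd_of_pow_eq_one h1
      have := Nat.le_of_dvd (by norm_num) ((Nat.prime_iff.1 (by norm_num : Nat.Prime 11)).dvd_of_dvd_pow h2)
      omega
  have hO' : O ≤ M := fun o ho => h.hout o fun m hm => by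
    refine hOM _ ?_ ?_
    · rw [show o * m * o⁻¹ * m⁻¹ = o * (m * o⁻¹ * m⁻¹) by group]
      exact mul_mem ho ((inferInstance : O.Normal).conj_mem _ (inv_mem ho) m)
    · rw [show o * m * o⁻¹ * m⁻¹ = (o * m * o⁻¹) * m⁻¹ by group]
      exact mul_mem ((inferInstance : M.Normal).conj_mem _ hm o) (inv_mem hm)
  have hON : O ≤ N := fun o ho => hOM o ho (hO' ho)
  refine (eq_of_le_of_card_ge hQO ?_).symm
  obtain ⟨k, hk⟩ := IsPGroup.iff_card.1 hOp
  have h1 := card_dvd_of_le hON
  rw [hk, h.cardN, h.card] at h1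
  rw [h.card, hk]
  have h2 : Nat.Coprime (2 ^ k) 3 := Nat.Coprime.pow_left _ (by norm_num)
  exact Nat.le_of_dvd (by norm_num) (h2.dvd_of_dvd_mul_left h1)

end Cfsg.Agent.J4Bridge
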