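import Mathlib
import Cfsg.Agent.Lib.J4Bridge.Quot

/-!
# The fourth Janko involution centralizer: the space `Q / ⟨t⟩`
-/

set_option autoImplicit false
set_option linter.style.haveILetI false
set_option linter.unusedSectionVars false

namespace Cfsg.Agent.J4Bridge

open Subgroup
open scoped commutatorElement

universe u

variable {H : Type u} [Group H] [Finite H]

/-- The quotient of `Q` by its derived subgroup, written additively. -/
abbrev QV (Q : Subgroup H) := Additive (Abelianization ↥Q)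

/-- The projection. -/
def mkV {Q : Subgroup H} (q : ↥Q) : QV Q := Additive.ofMul (Abelianization.of q)

theorem mkV_mul {Q : Subgroup H} (a b : ↥Q) : mkV (a * b) = mkV a + mkV b :=
  congrArg Additive.ofMul (map_mul _ _ _)

theorem mkV_one {Q : Subgroup H} : mkV (1 : ↥Q) = 0 := congrArg Additive.ofMul (map_one _)

theorem mkV_surj {Q : Subgroup H} : Function.Surjective (mkV (Q := Q)) := by
  intro v
  obtain ⟨a, rfl⟩ := Additive.ofMul.surjective v
  obtain ⟨y, rfl⟩ := QuotientGroup.mk_surjective a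
  exact ⟨y, rfl⟩

/-- The action by conjugation. -/
noncomputable def act (Q : Subgroup H) [Q.Normal] (x : H) : QV Q →+ QV Q :=
  MonoidHom.toAdditive (Abelianization.map (MulAut.conjNormal (H := Q) x).toMonoidHom)

theorem act_mkV {Q : Subgroup H} [Q.Normal] (x : H) (q : ↥Q) :
    act Q x (mkV q) = mkV (MulAut.conjNormal x q) := rfl

theorem act_mul {Q : Subgroup H} [Q.Normal] (x y : H) (v : QV Q) :
    act Q (x * y) v = act Q x (act Q y v) := by
  obtain ⟨q, rfl⟩ := mkV_surj v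
  rw [act_mkV, act_mkV, act_mkV, map_mul, MulAut.mul_apply]

theorem act_one {Q : Subgroup H} [Q.Normal] (v : QV Q) : act Q 1 v = v := by
  obtain ⟨q, rfl⟩ := mkV_surj v
  rw [act_mkV, map_one, MulAut.one_apply]

theorem act_iterate {Q : Subgroup H} [Q.Normal] (x : H) (n : ℕ) (v : QV Q) :
    (⇑(act Q x))^[n] v = act Q (x ^ n) v := by
  induction n with
  | zero => rw [pow_zero, act_one]; rfl
  | succ k ih => rw [Function.iterate_succ_apply', ih, pow_succ', act_mul]

theorem act_self {Q : Subgroup H} [Q.Normal] {x : H} (hx : x ∈ Q) (v : QV Q) : act Q x v = v := by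
  obtain ⟨q, rfl⟩ := mkV_surj v
  rw [act_mkV]
  have e : MulAut.conjNormal x q = ⟨x, hx⟩ * q * (⟨x, hx⟩ : ↥Q)⁻¹ := Subtype.ext (by
    rw [MulAut.conjNormal_apply]; rfl)
  rw [e]
  refine congrArg Additive.ofMul ?_
  rw [map_mul, map_mul, map_inv, mul_comm, inv_mul_cancel_left]

/-- The stabilizer of a set of vectors. -/
def stab (Q : Subgroup H) [Q.Normal] (W : Set (QV Q)) : Subgroup H where
  carrier := {x | ∀ v ∈ W, act Q x v = v}
  one_mem' v _ := act_one v
  mul_mem' {a b} ha hb v hv := by rw [act_mul, hb v hv, ha v hv]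
  inv_mem' {a} ha v hv := by
    conv_lhs => rw [← ha v hv]
    rw [← act_mul, inv_mul_cancel, act_one]

theorem mem_stab {Q : Subgroup H} [Q.Normal] {W : Set (QV Q)} {x : H} :
    x ∈ stab Q W ↔ ∀ v ∈ W, act Q x v = v := Iff.rfl

variable {t : H} {Q N M : Subgroup H} [Q.Normal] [N.Normal] [M.Normal]

theorem mkV_eq_zero (h : Hyp t Q N M) (q : ↥Q) : mkV q = 0 ↔ (q : H) ∈ zpowers t := by
  have h1 : mkV q = 0 ↔ Abelianization.of q = 1 := Iff.rfl
  rw [h1, ← MonoidHom.mem_ker, Abelianization.ker_of, h.ext.1.2.2, ← h.ctr.ctr]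
  exact (mem_map_iff_mem Q.subtype_injective).symm

theorem mkV_t (h : Hyp t Q N M) : mkV ⟨t, h.t_mem⟩ = 0 := (mkV_eq_zero h _).2 (mem_zpowers t)

theorem QV_two (h : Hyp t Q N M) (v : QV Q) : v + v = 0 := by
  obtain ⟨q, rfl⟩ := mkV_surj v
  rw [← mkV_mul, mkV_eq_zero h, coe_mul]
  rcases h.ctr.sq_cases q.2 with e | e <;> rw [e]
  exacts [one_mem _, mem_zpowers t]

theorem card_QV (h : Hyp t Q N M) : Nat.card (QV Q) = 2 ^ 12 := by
  have h1 : Nat.card ↥Q = Nat.card (↥Q ⧸ commutator ↥Q) * Nat.card ↥(commutator ↥Q) :=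
    card_eq_card_quotient_mul_card_subgroup _
  rw [h.card, h.ext.1.2.2, h.ext.2] at h1
  have h2 : Nat.card (QV Q) = Nat.card (↥Q ⧸ center ↥Q) := by rw [← h.ext.1.2.2]; rfl
  rw [h2]
  omega

/-- Equality of classes. -/
theorem eq_or_eq_of_mkV (h : Hyp t Q N M) {x y : ↥Q} (e : mkV x = mkV y) :
    (y : H) = x ∨ (y : H) = x * t := by
  have h1 : mkV (x⁻¹ * y) = 0 := by
    rw [mkV_mul, ← e, ← mkV_mul, inv_mul_cancel, mkV_one]
  rcases h.ctr.mem_zpowers_cases ((mkV_eq_zero h _).1 h1) with e1 | e1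
  · exact Or.inl (inv_mul_eq_one.1 e1).symm
  · exact Or.inr (inv_mul_eq_iff_eq_mul.1 e1)

open scoped _root_.Classical in
/-- The commutator pairing on elements. -/
noncomputable def cq (x y : H) : ZMod 2 := if x * y = y * x then 0 else 1

theorem cq_mul_right (h : Hyp t Q N M) {x y w : H} (hx : x ∈ Q) (hy : y ∈ Q) (hw : w ∈ Q) :
    cq x (y * w) = cq x y + cq x w := by
  have hc : ∀ s : H, t * s = s * t := fun s => (mem_center_iff.1 h.t_cent s).symm
  have e : ⁅x, y * w⁆ = ⁅x, y⁆ * ⁅x, w⁆ := by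
    rcases h.ctr.comm_cases hx hw with e | e
    · rw [e, mul_one, commutatorElement_def, commutatorElement_def]
      rw [commutatorElement_eq_one_iff_mul_comm] at e
      calc x * (y * w) * x⁻¹ * (y * w)⁻¹ = x * y * (w * x⁻¹) * w⁻¹ * y⁻¹ := by group
        _ = x * y * (x⁻¹ * (x * w) * x⁻¹) * w⁻¹ * y⁻¹ := by group
        _ = x * y * (x⁻¹ * (w * x) * x⁻¹) * w⁻¹ * y⁻¹ := by rw [e]
        _ = _ := by group
    · calc ⁅x, y * w⁆ = ⁅x, y⁆ * (y * ⁅x, w⁆ * y⁻¹) := by simp only [commutatorElement_def]; group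
        _ = _ := by rw [e, ← hc y, mul_inv_cancel_right]
  have hne : (t : H) ≠ 1 := h.ctr.ne_one
  have key : ∀ {a b : H}, a ∈ Q → b ∈ Q → (⁅a, b⁆ = 1 ∧ cq a b = 0) ∨ (⁅a, b⁆ = t ∧ cq a b = 1) := by
    intro a b ha hb
    rcases h.ctr.comm_cases ha hb with e | e
    · exact Or.inl ⟨e, by simp [cq, commutatorElement_eq_one_iff_mul_comm.1 e]⟩
    · refine Or.inr ⟨e, ?_⟩
      have : ¬ a * b = b * a := fun hh => hne (e ▸ commutatorElement_eq_one_iff_mul_comm.2 hh)
      simp [cq, this]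
  rcases key hx hy with ⟨a1, b1⟩ | ⟨a1, b1⟩ <;> rcases key hx hw with ⟨a2, b2⟩ | ⟨a2, b2⟩ <;>
    rcases key hx (mul_mem hy hw) with ⟨a3, b3⟩ | ⟨a3, b3⟩ <;>
    rw [a3, a1, a2] at e <;> rw [b1, b2, b3] <;>
    first
      | rfl
      | decide
      | (exfalso; simp only [mul_one, one_mul, h.ctr.zz] at e; first | exact hne e | exact hne e.symm)

theorem cq_t (h : Hyp t Q N M) (x : H) : cq x t = 0 := if_pos (mem_center_iff.1 h.t_cent x)

theorem cq_comm (x y : H) : cq x y = cq y x := by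
  unfold cq
  by_cases e : x * y = y * x <;> simp [e, eq_comm]

theorem cq_congr (h : Hyp t Q N M) (x : ↥Q) {y y' : ↥Q} (e : mkV y = mkV y') :
    cq (x : H) y = cq (x : H) y' := by
  rcases eq_or_eq_of_mkV h e with e1 | e1 <;> rw [e1]
  rw [cq_mul_right h x.2 y.2 h.t_mem, cq_t h, add_zero]

/-- The commutator pairing. -/
noncomputable def pairV (Q : Subgroup H) (v w : QV Q) : ZMod 2 :=
  cq ((Function.surjInv mkV_surj v : ↥Q) : H) ((Function.surjInv mkV_surj w : ↥Q) : H)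

theorem pairV_mkV (h : Hyp t Q N M) (x y : ↥Q) : pairV Q (mkV x) (mkV y) = cq (x : H) y := by
  rw [pairV, cq_congr h _ (Function.surjInv_eq mkV_surj (mkV y)), cq_comm,
    cq_congr h _ (Function.surjInv_eq mkV_surj (mkV x)), cq_comm]

theorem pairV_add_right (h : Hyp t Q N M) (u v w : QV Q) :
    pairV Q u (v + w) = pairV Q u v + pairV Q u w := by
  obtain ⟨a, rfl⟩ := mkV_surj u
  obtain ⟨b, rfl⟩ := mkV_surj v
  obtain ⟨c, rfl⟩ := mkV_surj w
  rw [← mkV_mul, pairV_mkV h, pairV_mkV h, pairV_mkV h, coe_mul]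
  exact cq_mul_right h a.2 b.2 c.2

theorem pairV_comm (v w : QV Q) : pairV Q v w = pairV Q w v := cq_comm _ _

theorem pairV_add_left (h : Hyp t Q N M) (u v w : QV Q) :
    pairV Q (u + v) w = pairV Q u w + pairV Q v w := by
  rw [pairV_comm, pairV_add_right h, pairV_comm w u, pairV_comm w v]

theorem pairV_nondeg (h : Hyp t Q N M) (u : QV Q) (hu : ∀ w, pairV Q u w = 0) : u = 0 := by
  obtain ⟨a, rfl⟩ := mkV_surj u
  refine (mkV_eq_zero h a).2 ?_
  rw [← h.ctr.ctr]
  refine ⟨a, mem_center_iff.2 fun b => Subtype.ext ?_, rfl⟩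
  have h1 := hu (mkV b)
  rw [pairV_mkV h] at h1
  unfold cq at h1
  split_ifs at h1 with e
  · exact e.symm
  · exact absurd h1 (by decide)

theorem pairV_act (h : Hyp t Q N M) (x : H) (u v : QV Q) :
    pairV Q (act Q x u) (act Q x v) = pairV Q u v := by
  obtain ⟨a, rfl⟩ := mkV_surj u
  obtain ⟨b, rfl⟩ := mkV_surj v
  rw [act_mkV, act_mkV, pairV_mkV h, pairV_mkV h, MulAut.conjNormal_apply, MulAut.conjNormal_apply]
  have hiff : x * (a : H) * x⁻¹ * (x * b * x⁻¹) = x * b * x⁻¹ * (x * a * x⁻¹) ↔ (a : H) * b = b * a := by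
    rw [show x * (a : H) * x⁻¹ * (x * b * x⁻¹) = x * ((a : H) * b) * x⁻¹ by group,
      show x * (b : H) * x⁻¹ * (x * a * x⁻¹) = x * ((b : H) * a) * x⁻¹ by group, mul_left_inj, mul_right_inj]
  by_cases e : (a : H) * b = b * a <;> simp [cq, hiff, e]

end Cfsg.Agent.J4Bridge
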