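import Mathlib
import Cfsg.Agent.Lib.J4Bridge.Seven
import Cfsg.Agent.Lib.J4Bridge.Space

/-!
# The fourth Janko involution centralizer: the fixed points of the element of order three
-/

set_option autoImplicit false
set_option linter.style.haveILetI false
set_option linter.unusedSectionVars false

namespace Cfsg.Agent.J4Bridge

open Subgroup
open scoped commutatorElement

universe u

variable {H : Type u} [Group H] [Finite H] {t : H} {Q N M : Subgroup H}
  [Q.Normal] [N.Normal] [M.Normal]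

theorem Hyp.comm_mem (h : Hyp t Q N M) {m n : H} (hm : m ∈ M) (hn : n ∈ N) :
    m * n * m⁻¹ * n⁻¹ ∈ Q :=
  h.hcent (commutator_mem_commutator hm hn)

/-- A subgroup of `M` normalized by `M`, containing `Q` and not contained in `N`, is `M`. -/
theorem Hyp.le_of_not_le (h : Hyp t Q N M) (e : ↥M ⧸ N.subgroupOf M ≃* ↥Spor.M22) (K : Subgroup H)
    (hKM : K ≤ M) (hQK : Q ≤ K) (hnorm : ∀ m ∈ M, ∀ k ∈ K, m * k * m⁻¹ ∈ K) {x : H} (hx : x ∈ K)
    (hxN : x ∉ N) : M ≤ K := by
  haveI := Cfsg.Agent.Golay.M22TwoBlock.isSimple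
  set g : ↥M →* ↥Spor.M22 := e.toMonoidHom.comp (QuotientGroup.mk' _) with hg
  have hgker : ∀ m : ↥M, g m = 1 ↔ (m : H) ∈ N := fun m => by
    rw [hg, MonoidHom.comp_apply, MulEquiv.coe_toMonoidHom, MulEquiv.map_eq_one_iff,
      QuotientGroup.mk'_apply, QuotientGroup.eq_one_iff, mem_subgroupOf]
  have hgs : Function.Surjective g := e.surjective.comp (QuotientGroup.mk'_surjective _)
  haveI : (K.subgroupOf M).Normal := ⟨fun k hk m => hnorm m m.2 k hk⟩
  haveI : ((K.subgroupOf M).map g).Normal := Subgroup.Normal.map inferInstance g hgs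
  have htop : (K.subgroupOf M).map g = ⊤ := by
    refine (inferInstance : ((K.subgroupOf M).map g).Normal).eq_bot_or_eq_top.resolve_left fun hb => hxN ?_
    exact (hgker ⟨x, hKM hx⟩).1 (mem_bot.1 (hb ▸ mem_map_of_mem g
      (show (⟨x, hKM hx⟩ : ↥M) ∈ K.subgroupOf M from hx)))
  have hdec : ∀ m ∈ M, ∃ k ∈ K, k⁻¹ * m ∈ N := by
    intro m hm
    obtain ⟨k, hk, e1⟩ := (htop ▸ mem_top (g ⟨m, hm⟩) : g ⟨m, hm⟩ ∈ (K.subgroupOf M).map g)
    refine ⟨k, hk, ?_⟩
    have := (hgker (k⁻¹ * ⟨m, hm⟩)).1 (by rw [map_mul, map_inv, e1, inv_mul_cancel])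
    simpa using this
  have hcom : ⁅M, M⁆ ≤ K := by
    rw [commutator_le]
    intro a ha b hb
    obtain ⟨k, hk, hn⟩ := hdec a ha
    set n := k⁻¹ * a with hn'
    have ea : a = k * n := by rw [hn', mul_inv_cancel_left]
    have h1 : ⁅n, b⁆ ∈ K := hQK (by
      have := inv_mem (h.comm_mem hb hn)
      rwa [← commutatorElement_def, commutatorElement_inv] at this)
    have e2 : ⁅a, b⁆ = k * ⁅n, b⁆ * k⁻¹ * (k * (b * k⁻¹ * b⁻¹)) := by
      rw [ea]; simp only [commutatorElement_def]; group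
    rw [e2]
    exact mul_mem (mul_mem (mul_mem hk h1) (inv_mem hk)) (mul_mem hk (hnorm b hb _ (inv_mem hk)))
  exact h.hperf.trans (sup_le hcom hQK)

theorem Hyp.exists_order (h : Hyp t Q N M) (e : ↥M ⧸ N.subgroupOf M ≃* ↥Spor.M22) {p : ℕ}
    (hp : p.Prime) (hd : p ∣ 443520) (hn : ¬ p ∣ 3 * 2 ^ 13) :
    ∃ g ∈ M, g ∉ N ∧ g ^ p = 1 := by
  haveI := Fact.mk hp
  obtain ⟨g, hg⟩ := exists_prime_orderOf_dvd_card' (G := ↥M) p
    (by rw [h.card_M e]; exact hd.mul_right _)
  refine ⟨g, g.2, fun hgN => hn ?_, ?_⟩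
  · rw [← h.card, ← h.cardN, ← hg, ← orderOf_injective M.subtype M.subtype_injective g]
    exact N.orderOf_dvd_natCard hgN
  · rw [← hg, ← SubgroupClass.coe_pow, pow_orderOf_eq_one, OneMemClass.coe_one]

theorem Hyp.exists_gen (h : Hyp t Q N M) {P : Subgroup H} (hP : Nat.card ↥P = 3) :
    ∃ p ∈ P, p ^ 3 = 1 ∧ p ∉ Q ∧ P = zpowers p := by
  haveI : Fact (Nat.Prime 3) := ⟨Nat.prime_three⟩
  obtain ⟨⟨p, hp⟩, hord⟩ := exists_prime_orderOf_dvd_card' (G := ↥P) 3 (by rw [hP])
  rw [Subgroup.orderOf_mk] at hord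
  refine ⟨p, hp, hord ▸ pow_orderOf_eq_one p, fun hpQ => ?_, ?_⟩
  · have := Q.orderOf_dvd_natCard hpQ
    rw [hord, h.card] at this
    exact absurd this (by norm_num)
  · refine (eq_of_le_of_card_ge (zpowers_le.2 hp) ?_).symm
    rw [Nat.card_zpowers, hord, hP]

/-- An element of order three acting trivially on `Q / ⟨t⟩` modulo a vector commutes with it. -/
theorem Hyp.comm_of_fix (h : Hyp t Q N M) {p : H} (hp3 : p ^ 3 = 1) {q : ↥Q}
    (hq : act Q p (mkV q) = mkV q) : p * q = q * p := by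
  rw [act_mkV] at hq
  rcases eq_or_eq_of_mkV h hq with e | e <;> rw [MulAut.conjNormal_apply] at e
  · exact mul_inv_eq_iff_eq_mul.1 e.symm
  · exfalso
    have hc : ∀ s : H, s * t = t * s := fun s => mem_center_iff.1 h.t_cent s
    have e1 : p * (q : H) = (q : H) * t * p := by
      have : p * (q : H) * p⁻¹ = (q : H) * t := by
        conv_rhs => rw [e, mul_assoc, h.ctr.zz, mul_one]
      exact mul_inv_eq_iff_eq_mul.1 this
    have e3 : p * (p * (p * (q : H))) = (q : H) * (t * t * t) * (p * (p * p)) := by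
      have ep : p * t = t * p := hc p
      calc p * (p * (p * (q : H))) = p * (p * ((q : H) * t * p)) := by rw [e1]
        _ = p * ((p * (q : H)) * t * p) := by group
        _ = p * ((q : H) * t * (p * t) * p) := by rw [e1]; group
        _ = (p * (q : H)) * t * (p * t) * p := by group
        _ = (q : H) * t * p * t * (p * t) * p := by rw [e1]
        _ = (q : H) * t * (p * t) * (p * t) * p := by group
        _ = (q : H) * t * (t * p) * (t * p) * p := by rw [ep]
        _ = (q : H) * t * t * (p * t) * p * p := by group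
        _ = (q : H) * t * t * (t * p) * p * p := by rw [ep]
        _ = _ := by group
    have hp3' : p * (p * p) = 1 := by rw [← hp3, pow_succ, pow_two, mul_assoc]
    rw [← mul_assoc p p, ← mul_assoc (p * p), mul_assoc p p, hp3', one_mul, mul_one, h.ctr.zz, one_mul,
      left_eq_mul] at e3
    exact h.ctr.ne_one e3

/-- An element of order three in `N` centralizes only `⟨t⟩` in `Q`. -/
theorem Hyp.fixed_eq (h : Hyp t Q N M) (e : ↥M ⧸ N.subgroupOf M ≃* ↥Spor.M22) {P : Subgroup H}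
    (hPN : P ≤ N) (hP : Nat.card ↥P = 3) : Q ⊓ centralizer (P : Set H) = zpowers t := by
  refine le_antisymm ?_ (zpowers_le.2 (show t ∈ Q ⊓ centralizer (P : Set H) from
    ⟨h.t_mem, mem_centralizer_iff.2 fun y _ => mem_center_iff.1 h.t_cent y⟩))
  obtain ⟨p, hpP, hp3, hpQ, -⟩ := h.exists_gen hP
  have hpN := hPN hpP
  have hpM := h.hNM hpN
  set τ := act Q p with hτ
  have hcomm : ∀ m ∈ M, ∀ v, act Q m (τ v) = τ (act Q m v) := by
    intro m hm v
    rw [hτ, ← act_mul, ← act_mul]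
    have e1 : m * p = (m * p * m⁻¹ * p⁻¹) * (p * m) := by group
    rw [e1, act_mul, act_self (h.comm_mem hm hpN)]
  have hτ3 : ∀ v, (⇑τ)^[3] v = v := fun v => by rw [hτ, act_iterate, hp3, act_one]
  have hchar := QV_two h
  set W0 := fixSub τ with hW0
  suffices hbot : W0 = ⊥ by
    rintro x ⟨hxQ, hxP⟩
    refine (mkV_eq_zero h ⟨x, hxQ⟩).1 ?_
    rw [← AddSubgroup.mem_bot, ← hbot, hW0, mem_fixSub, hτ, act_mkV]
    congr 1
    apply Subtype.ext
    rw [MulAut.conjNormal_apply]
    show p * x * p⁻¹ = x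
    rw [mem_centralizer_iff.1 hxP p hpP, mul_inv_cancel_right]
  have hnot : ¬ ∀ v, τ v = v := by
    intro hall
    refine hpQ (h.h2c (mem_centralizer_iff.2 fun q hq => ?_))
    exact (h.comm_of_fix hp3 (q := ⟨q, hq⟩) (hall _)).symm
  -- a subgroup of `M` with an element outside `N` fixing an invariant subgroup is everything
  have htriv : ∀ W : AddSubgroup (QV Q), (∀ m ∈ M, ∀ v ∈ W, act Q m v ∈ W) →
      ∀ g ∈ M, g ∉ N → (∀ v ∈ W, act Q g v = v) → ∀ m ∈ M, ∀ v ∈ W, act Q m v = v := by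
    intro W hW g hg hgN hfix m hm
    have := h.le_of_not_le e (M ⊓ stab Q (W : Set (QV Q))) inf_le_left
      (le_inf (h.hQN.trans h.hNM) fun q hq v _ => act_self hq v) ?_ (x := g) ⟨hg, hfix⟩ hgN hm
    · exact mem_stab.1 this.2
    · rintro a ha k ⟨hkM, hk⟩
      refine ⟨mul_mem (mul_mem ha hkM) (M.inv_mem ha), mem_stab.2 fun v hv => ?_⟩
      rw [act_mul, act_mul, mem_stab.1 hk _ (hW _ (inv_mem ha) v hv), ← act_mul, mul_inv_cancel, act_one]
  have hW0inv : ∀ m ∈ M, ∀ v ∈ W0, act Q m v ∈ W0 := fun m hm v hv => by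
    rw [hW0, mem_fixSub] at hv ⊢
    rw [← hcomm m hm, hv]
  obtain ⟨g, hg, hgN, hg11⟩ := h.exists_order e (p := 11) (by norm_num) (by norm_num) (by norm_num)
  have hg11' : ∀ v, (⇑(act Q g))^[11] v = v := fun v => by rw [act_iterate, hg11, act_one]
  by_contra hbot
  -- `M` acts trivially on the fixed points
  have hMfix : ∀ m ∈ M, ∀ v ∈ W0, act Q m v = v := by
    by_cases hs : Nat.card ↥W0 ≤ 512
    · exact htriv W0 hW0inv g hg hgN fun v hv =>
        fix_eleven hchar (card_QV h) _ W0 (hW0inv g hg) (fun v _ => hg11' v) hs hv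
    · exfalso
      set δ : QV Q →+ QV Q := τ + AddMonoidHom.id _ with hδ
      have hker : δ.ker = W0 := by
        ext v
        rw [AddMonoidHom.mem_ker, hW0, mem_fixSub]
        exact add_eq_zero_iff' hchar
      have hcard : Nat.card ↥W0 * Nat.card ↥δ.range = 2 ^ 12 := by
        rw [← hker, ← AddSubgroup.index_ker, AddSubgroup.card_mul_index, card_QV h]
      have hW1inv : ∀ m ∈ M, ∀ v ∈ δ.range, act Q m v ∈ δ.range := by
        rintro m hm _ ⟨w, rfl⟩
        refine ⟨act Q m w, ?_⟩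
        show τ (act Q m w) + act Q m w = act Q m (τ w + w)
        rw [map_add, hcomm m hm]
      have hsmall : Nat.card ↥δ.range ≤ 512 := by
        by_contra hb
        have := Nat.mul_le_mul (Nat.le_of_lt (Nat.lt_of_not_le hs)) (Nat.le_of_lt (Nat.lt_of_not_le hb))
        omega
      have h1 := htriv δ.range hW1inv g hg hgN fun v hv =>
        fix_eleven hchar (card_QV h) _ δ.range (hW1inv g hg) (fun v _ => hg11' v) hsmall hv
      refine hnot fun v => ?_
      have h2 : τ (τ v + v) = τ v + v := h1 p hpM _ ⟨v, rfl⟩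
      rw [map_add, add_comm (τ v)] at h2
      have h3 : τ (τ v) = v := add_right_cancel h2
      have h4 := hτ3 v
      rw [Function.iterate_succ_apply', Function.iterate_succ_apply', Function.iterate_one, h3] at h4
      exact h4
  obtain ⟨σ, hσM, hσN, hσ7⟩ := h.exists_order e (p := 7) (by norm_num) (by norm_num) (by norm_num)
  refine false_of_seven hchar (card_QV h) (act Q σ) τ
    (fun v => by rw [act_iterate, hσ7, act_one]) hτ3 (hcomm σ hσM) (pairV Q)
    (pairV_add_left h) (pairV_add_right h) (pairV_nondeg h) (pairV_act h σ)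
    (fun v hv => hMfix σ hσM v hv) ?_ ?_
  · by_contra hall
    push Not at hall
    exact hnot fun v => htriv ⊤ (fun _ _ _ _ => AddSubgroup.mem_top _) σ hσM hσN (fun v _ => hall v)
      p hpM v (AddSubgroup.mem_top v)
  · obtain ⟨v, hv, hv0⟩ := W0.bot_or_exists_ne_zero.resolve_left hbot
    exact ⟨v, hv0, hv⟩

end Cfsg.Agent.J4Bridge
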