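import Mathlib
import Cfsg.Agent.Lib.J4Local.Three
import Cfsg.Agent.Lib.J4Local.AutThree

/-!
# A 3-local configuration in the automorphism group of M22 and a lemma on central covers
-/

set_option autoImplicit false
set_option linter.style.haveILetI false
set_option linter.unusedSectionVars false

namespace Cfsg.Agent.J4Bridge

open Subgroup
open scoped commutatorElement

universe u v

/-- An involution normalizes a subgroup of order nine of `Aut M22`, fixes a nonidentity element of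
it and does not centralize it. -/
theorem exists_nine_config :
    ∃ (R : Subgroup (MulAut ↥Spor.M22)) (r s w : MulAut ↥Spor.M22),
      Nat.card ↥R = 9 ∧ (∀ x ∈ R, x ^ 3 = 1) ∧ (∀ x ∈ R, ∀ y ∈ R, x * y = y * x) ∧
      r ∈ R ∧ s ∈ R ∧ r ≠ 1 ∧ s ∉ zpowers r ∧ w * w = 1 ∧ w * r * w⁻¹ = r ∧
      (∀ x ∈ R, w * x * w⁻¹ ∈ R) ∧ ¬ ∀ x ∈ R, w * x * w⁻¹ = x := by
  haveI := Cfsg.Agent.Golay.M22TwoBlock.isSimple
  haveI : Fact (Nat.Prime 3) := ⟨Nat.prime_three⟩
  haveI : Fact (Nat.Prime 2) := ⟨Nat.prime_two⟩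
  have hM := J4Local.m22_card
  obtain ⟨R0⟩ : Nonempty (Sylow 3 ↥Spor.M22) := inferInstance
  have h9 := J4Local.three_card hM R0
  set c : ↥Spor.M22 →* MulAut ↥Spor.M22 := MulAut.conj with hc
  have hcinj : Function.Injective c := J4Local.conj_m22_injective
  set R := (R0 : Subgroup ↥Spor.M22).map c with hR
  have hR9 : Nat.card ↥R = 9 := by rw [hR, card_map_of_injective hcinj, h9]
  have hR3 : ∀ x ∈ R, x ^ 3 = 1 := by
    rintro _ ⟨y, hy, rfl⟩; rw [← map_pow, J4Local.three_pow hM R0 hy, map_one]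
  have hRc : ∀ x ∈ R, ∀ y ∈ R, x * y = y * x := by
    rintro _ ⟨x, hx, rfl⟩ _ ⟨y, hy, rfl⟩
    rw [← map_mul, ← map_mul, (J4Local.three_commute hM R0 hx hy).eq]
  obtain ⟨r, hr, hr1⟩ := R.bot_or_exists_ne_one.resolve_left fun e => by
    rw [e, Subgroup.card_bot] at hR9; omega
  have hr3 : orderOf r = 3 := orderOf_eq_prime (hR3 r hr) hr1
  obtain ⟨s, hs, hsr⟩ : ∃ s ∈ R, s ∉ zpowers r := by
    by_contra hall
    push Not at hall
    have h := card_le_of_le (show R ≤ zpowers r from hall)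
    rw [hR9, Nat.card_zpowers, hr3] at h
    omega
  set K := normalizer (R : Set (MulAut ↥Spor.M22)) with hK
  have hK144 : Nat.card ↥K = 144 := J4Local.card_normalizer_nine R hR9
  have horb := M22Order.ncard_conj_orbit K (le_normalizer hr)
  have hle : {x : MulAut ↥Spor.M22 | ∃ k ∈ K, k * r * k⁻¹ = x}.ncard ≤ 8 := by
    refine (Set.ncard_le_ncard (t := ((R : Set (MulAut ↥Spor.M22)) \ {1})) ?_ (Set.toFinite _)).trans ?_
    · rintro _ ⟨k, hk, rfl⟩
      exact ⟨(mem_normalizer_iff.1 hk r).1 hr, fun h => hr1 (conj_eq_one_iff.1 h)⟩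
    · rw [Set.ncard_sdiff_singleton_of_mem (one_mem R), ← Nat.card_coe_set_eq]
      show Nat.card ↥R - 1 ≤ 8
      omega
  rw [hK144] at horb
  have h2 : 2 ∣ Nat.card ↥(centralizer ({r} : Set (MulAut ↥Spor.M22)) ⊓ K) := by
    by_contra hodd
    have h16 : Nat.card ↥(centralizer ({r} : Set (MulAut ↥Spor.M22)) ⊓ K) ∣ 9 := by
      refine Nat.Coprime.dvd_of_dvd_mul_right (n := 16) ?_ ?_
      · rw [show (16 : ℕ) = 2 ^ 4 by norm_num]
        exact Nat.Coprime.pow_right _ ((Nat.prime_two.coprime_iff_not_dvd.2 hodd).symm)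
      · rw [show 9 * 16 = 144 from rfl]; exact Dvd.intro_left _ horb
    have := Nat.mul_le_mul hle (Nat.le_of_dvd (by norm_num) h16)
    omega
  obtain ⟨w, hw⟩ := exists_prime_orderOf_dvd_card'
    (G := ↥(centralizer ({r} : Set (MulAut ↥Spor.M22)) ⊓ K)) 2 h2
  have hwr : (w : MulAut ↥Spor.M22) * r * (w : MulAut ↥Spor.M22)⁻¹ = r := by
    rw [mem_centralizer_singleton_iff.1 w.2.1, mul_inv_cancel_right]
  have hw2 : (w : MulAut ↥Spor.M22) * w = 1 := by
    have := congrArg Subtype.val (pow_orderOf_eq_one w)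
    rw [hw, pow_two] at this
    exact this
  have hw1 : (w : MulAut ↥Spor.M22) ≠ 1 := fun e => by
    have : w = 1 := Subtype.ext e
    rw [this, orderOf_one] at hw; omega
  refine ⟨R, r, s, w, hR9, hR3, hRc, hr, hs, hr1, hsr, hw2, hwr,
    fun x hx => (mem_normalizer_iff.1 w.2.2 x).1 hx, fun hall => ?_⟩
  have hfix : ∀ y ∈ (R0 : Subgroup ↥Spor.M22), (w : MulAut ↥Spor.M22) y = y := fun y hy => by
    have := hall (c y) ⟨y, hy, rfl⟩
    rw [mul_inv_eq_iff_eq_mul, hc, J4Local.conj_commute] at this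
    exact J4Local.conj_m22_inj (mul_right_cancel this)
  by_cases hin : (w : MulAut ↥Spor.M22) ∈ Cfsg.Inn ↥Spor.M22
  · obtain ⟨m, hm⟩ := hin
    have hmC : m ∈ centralizer ((R0 : Subgroup ↥Spor.M22) : Set ↥Spor.M22) :=
      mem_centralizer_iff.2 fun y hy => by
        have := hfix y hy
        rw [← hm, MulAut.conj_apply, mul_inv_eq_iff_eq_mul] at this
        exact this.symm
    rw [J4Local.three_centralizer hM R0] at hmC
    have e1 : (w : MulAut ↥Spor.M22) ^ 3 = 1 := by rw [← hm, ← map_pow, J4Local.three_pow hM R0 hmC, map_one]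
    rw [pow_succ, pow_two, hw2, one_mul] at e1
    exact hw1 e1
  · exact J4Local.not_fix_nine hw2 hin (R0 : Subgroup ↥Spor.M22) (fun y hy => J4Local.mem_fixedBy.2 (hfix y hy)) h9

/-- A perfect group with an abelian Sylow 3-subgroup has no central element of order three. -/
theorem not_central_three {K : Type u} [Group K] [Finite K] (hperf : commutator K = ⊤)
    (S : Sylow 3 K) (hS : ∀ x ∈ (S : Subgroup K), ∀ y ∈ (S : Subgroup K), x * y = y * x)
    {z : K} (hz : z ∈ center K) (hz3 : z ^ 3 = 1) : z = 1 := by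
  haveI : Fact (Nat.Prime 3) := ⟨Nat.prime_three⟩
  letI : CommGroup ↥(S : Subgroup K) :=
    { (inferInstance : Group ↥(S : Subgroup K)) with
      mul_comm := fun x y => Subtype.ext (hS x x.2 y y.2) }
  by_contra hz1
  have key : ∀ (k : ℕ) (g₀ : K), g₀⁻¹ * z ^ k * g₀ ∈ (S : Subgroup K) → g₀⁻¹ * z ^ k * g₀ = z ^ k :=
    fun k g₀ _ => by rw [mul_assoc, ← mem_center_iff.1 (pow_mem hz k) g₀, inv_mul_cancel_left]
  set f := MonoidHom.transfer (MonoidHom.id ↥(S : Subgroup K))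
  have h1 : f z = 1 := by
    have : commutator K ≤ f.ker := Abelianization.commutator_subset_ker f
    exact MonoidHom.mem_ker.1 (this (hperf.symm ▸ mem_top z))
  rw [MonoidHom.transfer_eq_pow _ z key, MonoidHom.id_apply] at h1
  have h2 : z ^ (S : Subgroup K).index = 1 := congrArg Subtype.val h1
  have h3 : orderOf z = 3 := orderOf_eq_prime hz3 hz1
  have h4 := orderOf_dvd_of_pow_eq_one h2
  rw [h3] at h4
  exact S.not_dvd_index h4

/-- In a cover by a central subgroup of order three, an involution that fixes a nonidentity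
element of a subgroup of order nine and has non-commutative preimage centralizes it. -/
theorem false_of_cover {K : Type u} {A : Type v} [Group K] [Group A] [Finite A] (φ : K →* A)
    (hφ : Function.Surjective φ) (hcent : φ.ker ≤ center K) (hker : ∀ x ∈ φ.ker, x ^ 3 = 1)
    {R : Subgroup A} {r s w : A} (hR : Nat.card ↥R = 9) (hR3 : ∀ x ∈ R, x ^ 3 = 1)
    (hRc : ∀ x ∈ R, ∀ y ∈ R, x * y = y * x) (hr : r ∈ R) (hs : s ∈ R) (hr1 : r ≠ 1)
    (hsr : s ∉ zpowers r) (hw2 : w * w = 1) (hwr : w * r * w⁻¹ = r)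
    (hwR : ∀ x ∈ R, w * x * w⁻¹ ∈ R) (hnfix : ¬ ∀ x ∈ R, w * x * w⁻¹ = x)
    (hnc : ∃ x y : K, φ x ∈ R ∧ φ y ∈ R ∧ x * y ≠ y * x) : False := by
  have hgen : ∀ x ∈ R, ∃ i < 3, ∃ j < 3, x = r ^ i * s ^ j := by
    intro x hx
    set f : Fin 3 × Fin 3 → ↥R := fun v => ⟨r ^ (v.1 : ℕ) * s ^ (v.2 : ℕ), mul_mem (pow_mem hr _) (pow_mem hs _)⟩
    have hord : orderOf r = 3 := by
      haveI : Fact (Nat.Prime 3) := ⟨Nat.prime_three⟩
      exact orderOf_eq_prime (hR3 r hr) hr1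
    have hinj : Function.Injective f := by
      rintro ⟨i, j⟩ ⟨i', j'⟩ h
      have h' : r ^ (i : ℕ) * s ^ (j : ℕ) = r ^ (i' : ℕ) * s ^ (j' : ℕ) := congrArg Subtype.val h
      have hmem : s ^ ((j : ℤ) - (j' : ℤ)) ∈ zpowers r := by
        refine ⟨((i' : ℕ) : ℤ) - ((i : ℕ) : ℤ), ?_⟩
        show r ^ (((i' : ℕ) : ℤ) - ((i : ℕ) : ℤ)) = _
        rw [zpow_sub, zpow_sub, zpow_natCast, zpow_natCast, zpow_natCast, zpow_natCast]
        calc r ^ (i' : ℕ) * (r ^ (i : ℕ))⁻¹ = (r ^ (i : ℕ))⁻¹ * r ^ (i' : ℕ) := by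
              exact ((Commute.pow_pow (Commute.refl r) _ _).inv_right).eq
          _ = (r ^ (i : ℕ))⁻¹ * (r ^ (i' : ℕ) * s ^ (j' : ℕ)) * (s ^ (j' : ℕ))⁻¹ := by group
          _ = _ := by rw [← h']; group
      have hj : j = j' := by
        by_contra hne
        apply hsr
        have h3 : s ^ (3 : ℤ) = 1 := by exact_mod_cast hR3 s hs
        have : ∀ d : ℤ, (d = 1 ∨ d = -1 ∨ d = 2 ∨ d = -2) → s ^ d ∈ zpowers r → s ∈ zpowers r := by
          rintro d (rfl | rfl | rfl | rfl) hd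
          · simpa using hd
          · simpa using inv_mem hd
          · have := mul_mem hd hd
            rwa [← zpow_add, show (2 : ℤ) + 2 = 3 + 1 from rfl, zpow_add, h3, one_mul, zpow_one] at this
          · have := mul_mem hd (one_mem _)
            rwa [mul_one, show (-2 : ℤ) = 1 + (-3) from rfl, zpow_add, zpow_neg, h3, inv_one, mul_one,
              zpow_one] at this
        refine this _ ?_ hmem
        have : (j : ℕ) ≠ (j' : ℕ) := fun e => hne (Fin.ext e)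
        omega
      subst hj
      have hi : r ^ (i : ℕ) = r ^ (i' : ℕ) := mul_right_cancel h'
      rw [pow_eq_pow_iff_modEq, hord] at hi
      have : (i : ℕ) = (i' : ℕ) := by
        have := i.isLt; have := i'.isLt
        unfold Nat.ModEq at hi; omega
      rw [Fin.ext this]
    have hb := (Nat.bijective_iff_injective_and_card f).2 ⟨hinj, by rw [hR]; simp⟩
    obtain ⟨⟨i, j⟩, hv⟩ := hb.2 ⟨x, hx⟩
    exact ⟨i, i.isLt, j, j.isLt, (congrArg Subtype.val hv).symm⟩
  obtain ⟨a, ha⟩ := hφ r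
  obtain ⟨b, hb⟩ := hφ s
  obtain ⟨u, hu⟩ := hφ w
  have hcz : ∀ z ∈ φ.ker, ∀ g : K, g * z = z * g := fun z hz g => mem_center_iff.1 (hcent hz) g
  -- decomposition of the preimage
  have hdec : ∀ x : K, φ x ∈ R → ∃ i j : ℕ, ∃ z ∈ φ.ker, x = a ^ i * b ^ j * z := by
    intro x hx
    obtain ⟨i, -, j, -, e⟩ := hgen _ hx
    refine ⟨i, j, (a ^ i * b ^ j)⁻¹ * x, ?_, (mul_inv_cancel_left _ _).symm⟩
    rw [MonoidHom.mem_ker, map_mul, map_inv, map_mul, map_pow, map_pow, ha, hb, ← e, inv_mul_cancel]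
  have hab : a * b ≠ b * a := by
    intro hab
    obtain ⟨x, y, hx, hy, hxy⟩ := hnc
    obtain ⟨i, j, z, hz, rfl⟩ := hdec x hx
    obtain ⟨i', j', z', hz', rfl⟩ := hdec y hy
    have hCab : Commute a b := hab
    apply hxy
    have h1 : Commute (a ^ i * b ^ j) (a ^ i' * b ^ j') :=
      ((Commute.pow_pow (Commute.refl a) i i').mul_right (hCab.pow_pow i j')).mul_left
        ((hCab.symm.pow_pow j i').mul_right (Commute.pow_pow (Commute.refl b) j j'))
    have h2 : Commute (a ^ i * b ^ j * z) (a ^ i' * b ^ j' * z') :=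
      (h1.mul_right (hcz z' hz' _)).mul_left ((hcz z hz _).symm)
    exact h2.eq
  set c := ⁅a, b⁆ with hc
  have hc1 : c ≠ 1 := fun e => hab (commutatorElement_eq_one_iff_mul_comm.1 e)
  have hck : c ∈ φ.ker := by
    rw [MonoidHom.mem_ker, hc, commutatorElement_def]
    simp only [map_mul, map_inv, ha, hb]
    rw [hRc r hr s hs, mul_inv_cancel_right, mul_inv_cancel]
  -- lifts of the conjugates
  obtain ⟨i, hi, j, hj, es⟩ := hgen _ (hwR s hs)
  set z1 := a⁻¹ * (u * a * u⁻¹) with hz1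
  have hz1k : z1 ∈ φ.ker := by
    rw [MonoidHom.mem_ker, hz1, map_mul, map_mul, map_mul, map_inv, map_inv, ha, hu, hwr, inv_mul_cancel]
  set z2 := (a ^ i * b ^ j)⁻¹ * (u * b * u⁻¹) with hz2
  have hz2k : z2 ∈ φ.ker := by
    rw [MonoidHom.mem_ker, hz2, map_mul, map_mul, map_mul, map_inv, map_inv, map_mul, map_pow, map_pow,
      ha, hb, hu, es, inv_mul_cancel]
  have e1 : u * a * u⁻¹ = a * z1 := by rw [hz1, mul_inv_cancel_left]
  have e2 : u * b * u⁻¹ = a ^ i * b ^ j * z2 := by rw [hz2, mul_inv_cancel_left]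
  have hcomm : c = a * b ^ j * a⁻¹ * (b ^ j)⁻¹ := by
    calc c = u * c * u⁻¹ := by rw [hcz c hck u, mul_inv_cancel_right]
      _ = (u * a * u⁻¹) * (u * b * u⁻¹) * (u * a * u⁻¹)⁻¹ * (u * b * u⁻¹)⁻¹ := by
        rw [hc, commutatorElement_def]; group
      _ = a * (z1 * (a ^ i * b ^ j * z2)) * z1⁻¹ * a⁻¹ * (z2⁻¹ * (b ^ j)⁻¹ * (a ^ i)⁻¹) := by
        rw [e1, e2]; group
      _ = a * ((a ^ i * b ^ j * z2) * z1) * z1⁻¹ * a⁻¹ * (z2⁻¹ * (b ^ j)⁻¹ * (a ^ i)⁻¹) := by
        rw [← hcz z1 hz1k]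
      _ = a * a ^ i * b ^ j * (z2 * a⁻¹) * z2⁻¹ * (b ^ j)⁻¹ * (a ^ i)⁻¹ := by group
      _ = a * a ^ i * b ^ j * (a⁻¹ * z2) * z2⁻¹ * (b ^ j)⁻¹ * (a ^ i)⁻¹ := by rw [← hcz z2 hz2k]
      _ = a ^ i * (a * b ^ j * a⁻¹ * (b ^ j)⁻¹) * (a ^ i)⁻¹ := by group
      _ = _ := by
        rw [hcz (a * b ^ j * a⁻¹ * (b ^ j)⁻¹) ?_ (a ^ i), mul_inv_cancel_right]
        rw [MonoidHom.mem_ker]
        simp only [map_mul, map_inv, map_pow, ha, hb]
        rw [hRc r hr _ (pow_mem hs j), mul_inv_cancel_right, mul_inv_cancel]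
  have hj1 : j = 1 := by
    interval_cases j
    · exfalso; apply hc1; rw [hcomm]; simp
    · rfl
    · exfalso
      have e3 : a * b ^ 2 * a⁻¹ * (b ^ 2)⁻¹ = c * c := by
        calc a * b ^ 2 * a⁻¹ * (b ^ 2)⁻¹ = c * (b * c) * b⁻¹ := by rw [hc, commutatorElement_def, pow_two]; group
          _ = _ := by rw [hcz c hck b]; group
      rw [e3] at hcomm
      exact hc1 (left_eq_mul.1 hcomm)
  subst hj1
  rw [pow_one] at es
  have hi0 : r ^ i = 1 := by
    have h1 : w * (w * s * w⁻¹) * w⁻¹ = w * (r ^ i * s) * w⁻¹ := by rw [es]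
    have h2 : w * (w * s * w⁻¹) * w⁻¹ = s := by
      calc w * (w * s * w⁻¹) * w⁻¹ = (w * w) * s * (w * w)⁻¹ := by group
        _ = s := by rw [hw2]; group
    have h3 : w * (r ^ i * s) * w⁻¹ = (w * r * w⁻¹) ^ i * (w * s * w⁻¹) := by rw [conj_pow]; group
    rw [h2, h3, hwr, es, ← mul_assoc] at h1
    have h4 : r ^ i * r ^ i = 1 := right_eq_mul.1 h1
    have h5 : (r ^ i) ^ 3 = 1 := hR3 _ (pow_mem hr i)
    rwa [pow_succ, pow_two, h4, one_mul] at h5
  rw [hi0, one_mul] at es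
  refine hnfix fun x hx => ?_
  obtain ⟨i', -, j', -, rfl⟩ := hgen x hx
  calc w * (r ^ i' * s ^ j') * w⁻¹ = (w * r * w⁻¹) ^ i' * (w * s * w⁻¹) ^ j' := by rw [conj_pow, conj_pow]; group
    _ = _ := by rw [hwr, es]

end Cfsg.Agent.J4Bridge
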