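import Mathlib
import Cfsg.Agent.Lib.J4Bridge.Fix
import Cfsg.Agent.Lib.J4Bridge.ThreeLocal

/-!
# The fourth Janko involution centralizer: the element of order three is inverted

The local properties of a subgroup of order three of `N`.
-/

set_option autoImplicit false
set_option linter.style.haveILetI false
set_option linter.unusedSectionVars false

namespace Cfsg.Agent.J4Bridge

open Subgroup
open scoped commutatorElement

universe u

variable {H : Type u} [Group H] [Finite H] {t : H} {Q N M : Subgroup H}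
  [Q.Normal] [N.Normal] [M.Normal]

theorem Hyp.N_le_sup (h : Hyp t Q N M) {P : Subgroup H} (hPN : P ≤ N) (hP : Nat.card ↥P = 3) :
    N ≤ P ⊔ Q := by
  refine (eq_of_le_of_card_ge (sup_le hPN h.hQN) ?_).ge
  have hdisj : P ⊓ Q = ⊥ := disjoint_iff.1 (disjoint_of_coprime_natCard
    (by rw [hP, h.card]; exact Nat.Coprime.pow_right _ (by norm_num)))
  have h1 := Cores.card_sup_mul_card_inf P Q
  rw [hdisj, Subgroup.card_bot, mul_one, hP] at h1
  rw [h1, h.cardN]

/-- Some element of `H` moves the class of `p` modulo `Q`. -/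
theorem Hyp.exists_moved (h : Hyp t Q N M) (e : ↥M ⧸ N.subgroupOf M ≃* ↥Spor.M22) {P : Subgroup H}
    (hPN : P ≤ N) {p : H} (hP : P = zpowers p) (hP3 : Nat.card ↥P = 3) (hpQ : p ∉ Q) :
    ∃ x : H, x * p * x⁻¹ * p⁻¹ ∉ Q := by
  by_contra hall
  push Not at hall
  haveI : Fact (Nat.Prime 3) := ⟨Nat.prime_three⟩
  obtain ⟨φ, hφ, hφk⟩ := h.exists_phi e
  set π := QuotientGroup.mk' Q with hπ
  have hπs : Function.Surjective π := QuotientGroup.mk'_surjective Q
  have hπk : π.ker = Q := QuotientGroup.ker_mk' Q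
  set φ' : H ⧸ Q →* MulAut ↥Spor.M22 := QuotientGroup.lift Q φ (hφk ▸ h.hQN) with hφ'
  have hφ's : Function.Surjective φ' := fun a => by
    obtain ⟨x, hx⟩ := hφ a; exact ⟨π x, hx⟩
  have hkerP : φ'.ker ≤ P.map π := by
    intro y hy
    obtain ⟨x, rfl⟩ := hπs y
    have hxN : x ∈ N := hφk ▸ MonoidHom.mem_ker.2 hy
    have := mem_map_of_mem π (h.N_le_sup hPN hP3 hxN)
    rw [Subgroup.map_sup, show Q.map π = ⊥ by rw [Subgroup.map_eq_bot_iff, hπk], sup_bot_eq] at this
    exact this
  have hpc : P.map π ≤ center (H ⧸ Q) := by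
    rw [hP, MonoidHom.map_zpowers, zpowers_le]
    refine mem_center_iff.2 fun y => ?_
    obtain ⟨x, rfl⟩ := hπs y
    have h1 : π (x * p * x⁻¹ * p⁻¹) = 1 := MonoidHom.mem_ker.1 (hπk.symm ▸ hall x)
    rw [map_mul, map_mul, map_mul, map_inv, map_inv] at h1
    exact mul_inv_eq_iff_eq_mul.1 (mul_inv_eq_one.1 h1)
  have hker3 : ∀ y ∈ φ'.ker, y ^ 3 = 1 := by
    intro y hy
    obtain ⟨q, hq, rfl⟩ := hkerP hy
    have h1 : ((⟨q, hq⟩ : ↥P) ^ Nat.card ↥P : ↥P) = 1 := pow_card_eq_one'
    rw [hP3] at h1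
    have h2 : q ^ 3 = 1 := congrArg Subtype.val h1
    rw [← map_pow, h2, map_one]
  obtain ⟨R, r, s, w, hR, hR3, hRc, hr, hs, hr1, hsr, hw2, hwr, hwR, hnfix⟩ := exists_nine_config
  refine false_of_cover φ' hφ's (hkerP.trans hpc) hker3 hR hR3 hRc hr hs hr1 hsr hw2 hwr hwR hnfix ?_
  by_contra hcomm
  push Not at hcomm
  set Mb := M.map π with hMb
  have hMbi : Mb.index = 2 := by
    rw [hMb, index_map_eq M hπs (hπk.trans_le (h.hQN.trans h.hNM)), h.hM]
  have hcardB : Nat.card (H ⧸ Q) = 2 * (443520 * 3) := by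
    have h1 := Q.card_eq_card_quotient_mul_card_subgroup
    rw [h.card_H e, h.card] at h1
    omega
  have hcardM : Nat.card ↥Mb = 443520 * 3 := by
    have h1 := Mb.card_mul_index
    rw [hMbi, hcardB] at h1
    omega
  set S' := R.comap φ' with hS'
  have hS'27 : Nat.card ↥S' = 27 := by
    have h1 := S'.card_mul_index
    rw [hS', index_comap_of_surjective _ hφ's, hcardB] at h1
    have h2 := R.card_mul_index
    rw [hR, J4Local.card_mulAut_m22] at h2
    rw [show R.index = 98560 by omega] at h1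
    rw [hS']
    omega
  haveI : Mb.Normal := normal_of_index_eq_two hMbi
  have hS'M : S' ≤ Mb := by
    intro x hx
    have h27 : x ^ 27 = 1 := orderOf_dvd_iff_pow_eq_one.1 (hS'27 ▸ S'.orderOf_dvd_natCard hx)
    have e2 : x = (x * x) ^ 14 := by
      rw [← pow_two, ← pow_mul, show 2 * 14 = 27 + 1 by norm_num, pow_succ, h27, one_mul]
    rw [e2]
    exact pow_mem (mul_self_mem_of_index_two hMbi x) _
  have hfac : (Nat.card ↥Mb).factorization 3 = 3 := by
    rw [hcardM, Nat.factorization_def _ Nat.prime_three, show (443520 * 3 : ℕ) = 3 ^ 3 * 49280 by norm_num,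
      padicValNat.mul (by norm_num) (by norm_num), padicValNat.prime_pow,
      padicValNat.eq_zero_of_not_dvd (by norm_num), add_zero]
  let S : Sylow 3 ↥Mb := Sylow.ofCard (S'.subgroupOf Mb)
    (by rw [Nat.card_congr (subgroupOfEquivOfLe hS'M).toEquiv, hS'27, hfac]; norm_num)
  have hperf : commutator ↥Mb = ⊤ := by
    refine Subgroup.map_injective Mb.subtype_injective ?_
    rw [map_subtype_commutator, ← MonoidHom.range_eq_map, range_subtype]
    refine le_antisymm (commutator_le.2 fun a ha b hb => by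
      rw [commutatorElement_def]
      exact mul_mem (mul_mem (mul_mem ha hb) (inv_mem ha)) (inv_mem hb)) ?_
    have h1 := Subgroup.map_mono (f := π) h.hperf
    rwa [Subgroup.map_sup, map_commutator, show Q.map π = ⊥ by rw [Subgroup.map_eq_bot_iff, hπk],
      sup_bot_eq] at h1
  have hpM : π p ∈ Mb := mem_map_of_mem π (h.hNM (hPN (hP ▸ mem_zpowers p)))
  have hz := not_central_three hperf S
    (fun x hx y hy => Subtype.ext (hcomm x y hx hy))
    (z := ⟨π p, hpM⟩)
    (mem_center_iff.2 fun y => Subtype.ext (mem_center_iff.1 (hpc (mem_map_of_mem π (hP ▸ mem_zpowers p))) y))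
    (Subtype.ext (by
      have : π p ∈ φ'.ker := by
        rw [MonoidHom.mem_ker]
        show φ p = 1
        rw [← MonoidHom.mem_ker, hφk]
        exact hPN (hP ▸ mem_zpowers p)
      simpa using hker3 _ this))
  have : π p = 1 := congrArg Subtype.val hz
  rw [← MonoidHom.mem_ker, hπk] at this
  exact hpQ this

/-- Every element of `H` is a product of an element normalizing `P` and one of `N`. -/
theorem Hyp.frattini (h : Hyp t Q N M) {P : Subgroup H} (hPN : P ≤ N) (hP : Nat.card ↥P = 3) (x : H) :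
    ∃ a ∈ normalizer (P : Set H), ∃ n ∈ N, a * n = x := by
  haveI : Fact (Nat.Prime 3) := ⟨Nat.prime_three⟩
  let S : Sylow 3 ↥N := Sylow.ofCard (P.subgroupOf N) (by
    rw [Nat.card_congr (subgroupOfEquivOfLe hPN).toEquiv, hP, h.cardN, h.card,
      Nat.factorization_def _ Nat.prime_three, padicValNat.mul (by norm_num) (by norm_num),
      padicValNat.self (by norm_num), padicValNat.eq_zero_of_not_dvd (by norm_num)]
    norm_num)
  have hS : ((S : Subgroup ↥N).map N.subtype) = P := by
    show (P.subgroupOf N).map N.subtype = P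
    rw [subgroupOf, map_comap_eq, range_subtype, inf_of_le_right hPN]
  have htop := Sylow.normalizer_sup_eq_top S
  rw [hS] at htop
  obtain ⟨a, ha, n, hn, e⟩ := mem_sup_of_normal_right.1 (htop ▸ mem_top x)
  exact ⟨a, ha, n, hn, e⟩

/-- The local properties of a subgroup of order three of `N`. -/
theorem Hyp.exists_core (h : Hyp t Q N M) (e : ↥M ⧸ N.subgroupOf M ≃* ↥Spor.M22) :
    ∃ P : Subgroup H, P ≤ N ∧ Nat.card ↥P = 3 ∧ Q ⊓ centralizer (P : Set H) = zpowers t ∧
      (∃ x ∈ normalizer (P : Set H), x ∉ centralizer (P : Set H)) ∧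
      P ≤ ⁅centralizer (P : Set H), centralizer (P : Set H)⁆ := by
  haveI : Fact (Nat.Prime 3) := ⟨Nat.prime_three⟩
  obtain ⟨g, hg⟩ := exists_prime_orderOf_dvd_card' (G := ↥N) 3 (by rw [h.cardN]; exact Dvd.intro _ rfl)
  set P := zpowers (g : H) with hPdef
  have hPN : P ≤ N := zpowers_le.2 g.2
  have hP : Nat.card ↥P = 3 := by rw [hPdef, Nat.card_zpowers, Subgroup.orderOf_coe, hg]
  have hp3 : (g : H) ^ 3 = 1 := by rw [← hg, ← SubgroupClass.coe_pow, pow_orderOf_eq_one, OneMemClass.coe_one]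
  have hpQ : (g : H) ∉ Q := fun hq => by
    have := Q.orderOf_dvd_natCard hq
    rw [Subgroup.orderOf_coe, hg, h.card] at this
    exact absurd this (by norm_num)
  refine ⟨P, hPN, hP, h.fixed_eq e hPN hP, ?_, ?_⟩
  · obtain ⟨x, hx⟩ := h.exists_moved e hPN hPdef hP hpQ
    obtain ⟨a, ha, n, hn, rfl⟩ := h.frattini hPN hP x
    refine ⟨a, ha, fun hac => hx ?_⟩
    have h1 := h.comm_mem (h.hNM hn) g.2
    have h2 : a * n * (g : H) * (a * n)⁻¹ * (g : H)⁻¹ =
        a * (n * (g : H) * n⁻¹ * (g : H)⁻¹) * a⁻¹ * (a * (g : H) * a⁻¹ * (g : H)⁻¹) := by group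
    rw [h2, ← mem_centralizer_iff.1 hac _ (mem_zpowers (g : H)), mul_inv_cancel_right, mul_inv_cancel,
      mul_one]
    exact (inferInstance : Q.Normal).conj_mem _ h1 a
  · set C := M ⊓ centralizer (P : Set H) with hC
    have hMC : M ≤ C ⊔ Q := by
      intro m hm
      obtain ⟨a, ha, n, hn, rfl⟩ := h.frattini hPN hP m
      have haM : a ∈ M := by simpa using mul_mem hm (inv_mem (h.hNM hn))
      have hac : a ∈ centralizer (P : Set H) := by
        rw [hPdef, zpowers_eq_closure, centralizer_closure, mem_centralizer_singleton_iff]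
        have h1 := h.comm_mem haM g.2
        have h2 : a * (g : H) * a⁻¹ * (g : H)⁻¹ ∈ P := mul_mem ((mem_normalizer_iff.1 ha _).1 (mem_zpowers _))
          (inv_mem (mem_zpowers _))
        have h3 : a * (g : H) * a⁻¹ * (g : H)⁻¹ = 1 := (Subgroup.disjoint_def.1 (disjoint_of_coprime_natCard
          (by rw [hP, h.card]; exact Nat.Coprime.pow_right _ (by norm_num)) : Disjoint P Q)) h2 h1
        exact mul_inv_eq_iff_eq_mul.1 (mul_inv_eq_one.1 h3)
      refine mul_mem (mem_sup_left ⟨haM, hac⟩) ((h.N_le_sup hPN hP).trans (sup_le ?_ le_sup_right) hn)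
      refine le_trans (le_inf (hPN.trans h.hNM) ?_) le_sup_left
      exact fun y hy => mem_centralizer_iff.2 fun z hz => by
        obtain ⟨i, rfl⟩ := mem_zpowers_iff.1 (hy : y ∈ zpowers (g : H))
        obtain ⟨j, rfl⟩ := mem_zpowers_iff.1 (hz : z ∈ zpowers (g : H))
        exact ((Commute.refl (g : H)).zpow_zpow j i).eq
    have hcc : ⁅M, M⁆ ≤ ⁅C, C⁆ ⊔ Q := by
      set π := QuotientGroup.mk' Q
      have hQb : Q.map π = ⊥ := by rw [Subgroup.map_eq_bot_iff, QuotientGroup.ker_mk']
      have h1 : M.map π ≤ C.map π := by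
        have := Subgroup.map_mono (f := π) hMC
        rwa [Subgroup.map_sup, hQb, sup_bot_eq] at this
      have h2 : ⁅M, M⁆.map π ≤ ⁅C, C⁆.map π := by
        rw [map_commutator, map_commutator]
        exact commutator_mono h1 h1
      have h3 := map_le_iff_le_comap.1 h2
      rwa [comap_map_eq, QuotientGroup.ker_mk'] at h3
    obtain ⟨c, hc, q, hq, e1⟩ := mem_sup_of_normal_right.1
      ((h.hperf.trans (sup_le hcc le_sup_right)) (h.hNM g.2))
    have hcP : c ∈ centralizer (P : Set H) := by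
      refine (commutator_le.2 fun a ha b hb => ?_ : ⁅C, C⁆ ≤ centralizer (P : Set H)) hc
      exact mul_mem (mul_mem (mul_mem ha.2 hb.2) (inv_mem ha.2)) (inv_mem hb.2)
    have hgP : (g : H) ∈ centralizer (P : Set H) := by
      rw [hPdef, zpowers_eq_closure, centralizer_closure, mem_centralizer_singleton_iff]
    have hqP : q ∈ centralizer (P : Set H) := by
      have : q = c⁻¹ * (g : H) := by rw [← e1, inv_mul_cancel_left]
      rw [this]; exact mul_mem (inv_mem hcP) hgP
    have hqt : q ∈ zpowers t := h.fixed_eq e hPN hP ▸ (show q ∈ Q ⊓ centralizer (P : Set H) from ⟨hq, hqP⟩)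
    have hgC : (g : H) ∈ ⁅C, C⁆ := by
      rcases h.ctr.mem_zpowers_cases hqt with e2 | e2
      · rw [← e1, e2, mul_one]; exact hc
      · have hcomm : Commute c q := by rw [e2]; exact mem_center_iff.1 h.t_cent c
        have h4 : q ^ 4 = 1 := by rw [e2, pow_succ, pow_succ, pow_two, h.ctr.zz, one_mul, h.ctr.zz]
        have : (g : H) = c ^ 4 := by
          calc (g : H) = (g : H) ^ 4 := by rw [pow_succ, hp3, one_mul]
            _ = c ^ 4 * q ^ 4 := by rw [← e1, hcomm.mul_pow]
            _ = _ := by rw [h4, mul_one]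
        rw [this]
        exact pow_mem hc 4
    exact zpowers_le.2 (commutator_mono inf_le_right inf_le_right hgC)

end Cfsg.Agent.J4Bridge
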