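import Mathlib
import Cfsg.Agent.Lib.J4Bridge.Invert
import Cfsg.Agent.Lib.LargeExtra.Centralizer

/-!
# From the involution centralizer to the Janko-four type
-/

set_option autoImplicit false
set_option linter.style.haveILetI false
set_option linter.unusedSectionVars false

namespace Cfsg.Agent.J4Bridge

open Subgroup
open scoped commutatorElement

universe u

theorem isOfJankoFourTypeAt {G : Type u} [Group G] [Finite G] (t : G) (ht : orderOf t = 2)
    (Q N M : Subgroup (Subgroup.centralizer ({t} : Set G))) [Q.Normal] [N.Normal] [M.Normal]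
    (hQN : Q ≤ N) (hNM : N ≤ M) (hM : M.index = 2) (hQ : Cfsg.IsExtraspecial 2 Q)
    (hcard : Nat.card Q = 2 ^ 13) (hN : Nat.card N = 3 * Nat.card Q) (hcent : ⁅M, N⁆ ≤ Q)
    (hperf : M ≤ ⁅M, M⁆ ⊔ Q)
    (h2c : Subgroup.centralizer (Q : Set (Subgroup.centralizer ({t} : Set G))) ≤ Q)
    (hout : ∀ c : Subgroup.centralizer ({t} : Set G), (∀ m ∈ M, c * m * c⁻¹ * m⁻¹ ∈ N) → c ∈ M)
    (hM22 : Cfsg.Spor.IsoM22 (M ⧸ N.subgroupOf M)) : Cfsg.IsOfJankoFourTypeAt t := by
  have htC : t ∈ Subgroup.centralizer ({t} : Set G) := mem_centralizer_singleton_iff.2 rfl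
  set t0 : ↥(centralizer ({t} : Set G)) := ⟨t, htC⟩ with ht0
  have h : Hyp t0 Q N M :=
    ⟨by rw [ht0, Subgroup.orderOf_mk, ht],
      mem_center_iff.2 fun x => Subtype.ext (mem_centralizer_singleton_iff.1 x.2),
      hQN, hNM, hM, hQ, hcard, hN, hcent, hperf, h2c, hout⟩
  obtain ⟨e⟩ := hM22
  obtain ⟨φ, hφ, hφk⟩ := h.exists_phi e
  obtain ⟨P, hPN, hP, hfix, hmove, hder⟩ := h.exists_core e
  set ι := (centralizer ({t} : Set G)).subtype with hι
  have hinj : Function.Injective ι := (centralizer ({t} : Set G)).subtype_injective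
  have hE : Cfsg.twoCoreOfCentralizer t = Q.map ι := by
    show (Cfsg.pCore 2 ↥(centralizer ({t} : Set G))).map ι = _
    rw [h.pCore_eq e]
  have hcm : ∀ K : Subgroup ↥(centralizer ({t} : Set G)), Nat.card ↥(K.map ι) = Nat.card ↥K := fun K => card_map_of_injective hinj
  have hcen : ∀ (K : Subgroup ↥(centralizer ({t} : Set G))) (x : ↥(centralizer ({t} : Set G))),
      ι x ∈ centralizer ((K.map ι : Subgroup G) : Set G) ↔ x ∈ centralizer (K : Set ↥(centralizer ({t} : Set G))) := by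
    intro K x
    rw [mem_centralizer_iff, mem_centralizer_iff]
    exact ⟨fun hx k hk => hinj (by rw [map_mul, map_mul]; exact hx (ι k) ⟨k, hk, rfl⟩),
      by rintro hx _ ⟨k, hk, rfl⟩; rw [← map_mul, ← map_mul, hx k hk]⟩
  have hCP : (centralizer ({t} : Set G)) ⊓ centralizer ((P.map ι : Subgroup G) : Set G) = (centralizer (P : Set ↥(centralizer ({t} : Set G)))).map ι := by
    ext x
    constructor
    · rintro ⟨hx, hxP⟩
      exact ⟨⟨x, hx⟩, (hcen P ⟨x, hx⟩).1 hxP, rfl⟩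
    · rintro ⟨y, hy, rfl⟩
      exact ⟨y.2, (hcen P y).2 hy⟩
  refine ⟨P.map ι, ht, ?_, by rw [hE, hcm, hcard], ?_, ?_, by rw [hcm, hP], ?_, ?_, ?_⟩
  · rw [hE]
    exact LargeExtra.isExtraspecial_of_equiv hQ (Q.equivMapOfInjective ι hinj)
  · rw [hE]
    rintro x ⟨hx, hxQ⟩
    exact ⟨⟨x, hx⟩, h2c ((hcen Q ⟨x, hx⟩).1 hxQ), rfl⟩
  · have hsub : (N.map ι).subgroupOf (centralizer ({t} : Set G)) = N := comap_map_eq_self_of_injective hinj N
    refine ⟨N.map ι, hE ▸ map_mono hQN, map_subtype_le N, ?_, by rw [hE, hcm, hcm, hN], ?_, map_mono hPN⟩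
    · intro x hx
      refine mem_normalizer_iff.2 fun y => ⟨?_, ?_⟩
      · rintro ⟨n, hn, rfl⟩
        exact ⟨⟨x, hx⟩ * n * ⟨x, hx⟩⁻¹, (inferInstance : N.Normal).conj_mem _ hn _, rfl⟩
      · rintro ⟨n, hn, e'⟩
        refine ⟨⟨x, hx⟩⁻¹ * n * ⟨x, hx⟩, by
          simpa using (inferInstance : N.Normal).conj_mem _ hn (⟨x, hx⟩ : ↥(centralizer ({t} : Set G)))⁻¹, ?_⟩
        rw [map_mul, map_mul, map_inv, e']
        show x⁻¹ * (x * y * x⁻¹) * x = y
        group
    · haveI hn : ((N.map ι).subgroupOf (centralizer ({t} : Set G))).Normal := by rw [hsub]; infer_instance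
      exact ⟨hn, ⟨(QuotientGroup.quotientMulEquivOfEq (hsub.trans hφk.symm)).trans
        (QuotientGroup.quotientKerEquivOfSurjective φ hφ)⟩⟩
  · ext x
    constructor
    · rintro ⟨hxE, hxP⟩
      rw [hE] at hxE
      obtain ⟨q, hq, rfl⟩ := hxE
      have : q ∈ zpowers t0 := hfix ▸ (show q ∈ Q ⊓ centralizer (P : Set ↥(centralizer ({t} : Set G))) from ⟨hq, (hcen P q).1 hxP⟩)
      obtain ⟨i, rfl⟩ := mem_zpowers_iff.1 this
      exact mem_zpowers_iff.2 ⟨i, by rw [map_zpow]; rfl⟩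
    · intro hx
      obtain ⟨i, rfl⟩ := mem_zpowers_iff.1 hx
      refine zpow_mem (Subgroup.mem_inf.2 ⟨by rw [hE]; exact ⟨t0, h.t_mem, rfl⟩, ?_⟩) i
      exact (hcen P t0).2 (mem_centralizer_iff.2 fun y _ => mem_center_iff.1 h.t_cent y)
  · obtain ⟨x, hx, hxc⟩ := hmove
    intro heq
    have hxN : ι x ∈ (centralizer ({t} : Set G)) ⊓ normalizer ((P.map ι : Subgroup G) : Set G) :=
      ⟨x.2, le_normalizer_map ι ⟨x, hx, rfl⟩⟩
    rw [heq] at hxN
    exact hxc ((hcen P x).1 hxN.2)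
  · rw [hCP, ← map_commutator]
    exact map_mono hder

end Cfsg.Agent.J4Bridge
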