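import Cfsg.Prelude.Def_JankoFourType
import Cfsg.Agent.Lib.J4Bridge.Main
import Cfsg.Agent.Lib.J4V.Invol.Classes

/-!
# The fourth Janko group from an involution centralizer, given the order of the group
-/

set_option autoImplicit false
set_option linter.style.haveILetI false

namespace Cfsg.Agent.J4Bridge

universe u

/-- Everything but the order follows from the type. -/
theorem isJ4_of_card {G : Type u} [Group G] [Finite G] [IsSimpleGroup G] {t : G}
    (hJ : Cfsg.IsOfJankoFourTypeAt t)
    (horder : ¬ IsMulCommutative G → Nat.card G = 86775571046077562880) :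
    Cfsg.IsJ4 G ∧ ∃ x y : G, orderOf x = 2 ∧ orderOf y = 2 ∧ ¬ IsConj x y ∧
      ∀ z : G, orderOf z = 2 → IsConj z x ∨ IsConj z y := by
  have hG : ¬ IsMulCommutative G := by
    intro hcomm
    obtain ⟨P, hP⟩ := hJ
    obtain ⟨p, hp, hp1, -, -⟩ := J4Local.JType.exists_gen hP
    have h1 : p ∈ ⁅J4Local.CC t P, J4Local.CC t P⁆ := J4Local.JType.P_le_derived hP hp
    have h2 : ⁅J4Local.CC t P, J4Local.CC t P⁆ = ⊥ := by
      rw [Subgroup.commutator_eq_bot_iff_le_centralizer]
      exact fun a _ => Subgroup.mem_centralizer_iff.2 fun b _ => hcomm.is_comm.comm b a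
    rw [h2, Subgroup.mem_bot] at h1
    exact hp1 h1
  obtain ⟨u, hu, htu, hall⟩ := J4V.Invol.classes hG t hJ
  exact ⟨⟨inferInstance, horder hG⟩, t, u, hJ.elim fun _ h => h.1, hu, htu, hall⟩

end Cfsg.Agent.J4Bridge
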